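import Cfsg.Agent.Omega.TwoF.RkPSU
import Cfsg.Agent.Omega.ML.Gen3

/-!
# `U₄(3)`: elementary abelian 2-groups of automorphisms (helper844)

`outLe : OutLe (PSU 4 F 3) 2`, `rk : RK (PSU 4 F 3) 5` (`|F| = 9`).
-/

set_option autoImplicit false
set_option linter.unusedSectionVars false

namespace Cfsg.Agent.Omega.ML.UFour.Out

open Cfsg Matrix Cfsg.Agent.Omega.TwoF.RkLin Cfsg.Agent.Omega.TwoF.RkPSL Cfsg.Agent.Omega.TwoF.RkPSU
open Cfsg.Agent.LieClassical.HermBasic Cfsg.Agent.LieClassical.HermSiegel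
open Cfsg.Agent.ClassicalGeometry.PSUAutCount (gm toAut gm_mul gm_one gm_mul_inv gm_inv_mul eq_of_toAut_eq herm_gm)
open Cfsg.Agent.ClassicalGeometry.UnitAutBasic (pr pr_surjective)
open Cfsg.Agent.Schreier.PSU (f₁ f₂ toAut_eq mapGU conj_field f₁_eq_conj)
open Cfsg.Agent.Omega.ML.Gen3 Cfsg.Agent.Omega.TwoF

variable {F : Type*} [Field F] [Fintype F]

theorem two_ne (hF : Fintype.card F = 9) : (2 : F) ≠ 0 := by
  intro h0
  obtain ⟨p, hp⟩ := CharP.exists F
  obtain ⟨k, hpp, hk⟩ := FiniteField.card F p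
  have h1 : ((2 : ℕ) : F) = 0 := by exact_mod_cast h0
  rw [CharP.cast_eq_zero_iff F p] at h1
  have h3 := (Nat.prime_dvd_prime_iff_eq hpp Nat.prime_two).1 h1
  subst h3
  have h4 : 2 ∣ 9 := by
    rw [← hF, hk]
    exact dvd_pow_self 2 k.pos.ne'
  norm_num at h4

theorem rk (hF : Fintype.card F = 9) : RK (PSU 4 F 3) 5 := by
  have h1 : RkAut (PSU 4 F 3) (RkLin.rk 4 + 1) := rkAut (by rw [hF]; norm_num) (two_ne hF) (by norm_num)
  have h2 : RkLin.rk 4 + 1 = 5 := by decide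
  rw [h2] at h1
  exact fun A hA => h1 A fun x hx => by rw [← pow_two]; exact hA x hx

/-- An element of determinant one of `GU₄(3)` induces an inner automorphism. -/
theorem inner_of_det (A : GU 4 F 3) (h : (gm A).det = 1) :
    (f₁ A : MulAut (PSU 4 F 3)) ∈ (MulAut.conj : PSU 4 F 3 →* MulAut (PSU 4 F 3)).range := by
  let g : SU 4 F 3 := mkSU (gm A) h (fun u v => herm_gm _ u v)
  exact ⟨pr 4 F 3 g, (f₁_eq_conj A g rfl).symm⟩

theorem det_sq (hF : Fintype.card F = 9) (A : GU 4 F 3) (h : (f₁ A : MulAut (PSU 4 F 3)) * f₁ A = 1) :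
    (gm A).det * (gm A).det = 1 := by
  have hF' : Fintype.card F = 3 ^ 2 := by rw [hF]; norm_num
  have h1 : (toAut 1 1 : MulAut (PSU 4 F 3)) = toAut (A * A) 1 := by
    rw [toAut_one, toAut_one, map_one, map_mul, h]
  obtain ⟨-, c, hc, h2⟩ := eq_of_toAut_eq hF' (by norm_num) h1
  rw [gm_mul, gm_one] at h2
  have h3 := congrArg Matrix.det h2
  rw [det_mul, det_smul, det_one, mul_one, Fintype.card_fin] at h3
  rw [h3]
  linear_combination hc

/-- **The outer part.** -/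
theorem outLe (hF : Fintype.card F = 9) : OutLe (PSU 4 F 3) 2 := by
  have hF' : Fintype.card F = 3 ^ 2 := by rw [hF]; norm_num
  have := finite_PSU (F := F) (q := 3) (n := 4)
  have : Finite (MulAut (PSU 4 F 3)) := finite_mulAut _
  have h32 : ¬ (4 = 3 ∧ 3 = 2) := by norm_num
  intro A hA'
  have hA : ∀ x ∈ A, x * x = 1 := fun x hx => by rw [← pow_two]; exact hA' x hx
  have hall := Cfsg.Agent.ClassicalGeometry.PSUAutMain.exists_toAut (F := F) (q := 3) (n := 4) hF' (by norm_num) h32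
  have h1 : Nat.card A ≤ 2 * Nat.card (A ⊓ (f₁ : GU 4 F 3 →* MulAut (PSU 4 F 3)).range : Subgroup _) := by
    apply card_le_two_mul
    intro x hx hxn y hy hyn
    obtain ⟨C, σ, hC⟩ := hall x
    obtain ⟨D, τ, hD⟩ := hall y
    have hsq : ∀ (C : GU 4 F 3) (σ : F ≃+* F), toAut C σ * toAut C σ = 1 → σ * σ = 1 := by
      intro C σ h
      rw [toAut_mul] at h
      have h3 : (toAut (C * mapGU σ C) (σ * σ) : MulAut (PSU 4 F 3)) = toAut 1 1 := by
        rw [h, toAut_one, map_one]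
      exact (eq_of_toAut_eq hF' (by norm_num) h3).1.symm
    have hσ : σ * σ = 1 := hsq C σ (by rw [← hC]; exact hA x hx)
    have hτ : τ * τ = 1 := hsq D τ (by rw [← hD]; exact hA y hy)
    have hσ1 : σ ≠ 1 := by
      rintro rfl
      exact hxn ⟨hx, C, by rw [hC, toAut_one]⟩
    have hτ1 : τ ≠ 1 := by
      rintro rfl
      exact hyn ⟨hy, D, by rw [hD, toAut_one]⟩
    have hστ := field_inv_unique hσ hτ hσ1 hτ1
    refine ⟨mul_mem hx hy, C * mapGU σ D, ?_⟩
    rw [hC, hD, toAut_mul, ← hστ, hσ, toAut_one]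
  have h2 : Nat.card (A ⊓ (f₁ : GU 4 F 3 →* MulAut (PSU 4 F 3)).range : Subgroup _) ≤
      2 * Nat.card (A ⊓ (MulAut.conj : PSU 4 F 3 →* MulAut (PSU 4 F 3)).range : Subgroup _) := by
    apply card_le_two_mul
    rintro x ⟨hx, C, rfl⟩ hxn y ⟨hy, D, rfl⟩ hyn
    refine ⟨mul_mem hx hy, ?_⟩
    have e1 := det_sq hF C (hA _ hx)
    have e2 := det_sq hF D (hA _ hy)
    have d1 : (gm C).det ≠ 1 := fun h => hxn ⟨hx, inner_of_det C h⟩
    have d2 : (gm D).det ≠ 1 := fun h => hyn ⟨hy, inner_of_det D h⟩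
    have f1 : (gm C).det = -1 := (mul_self_eq_one_iff.1 e1).resolve_left d1
    have f2 : (gm D).det = -1 := (mul_self_eq_one_iff.1 e2).resolve_left d2
    rw [← map_mul]
    apply inner_of_det
    rw [gm_mul, det_mul, f1, f2]
    ring
  omega

end Cfsg.Agent.Omega.ML.UFour.Out
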